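import Cfsg.Agent.H739.PQ.Section
import Cfsg.Agent.H329.PQ.MF
import Cfsg.Agent.Blocks.PrincipalSection
import Cfsg.Agent.Blocks.Orthogonality
import Cfsg.Agent.Blocks.Osima
import Cfsg.Agent.Blocks.ExistsModular
import Cfsg.Agent.S0157

/-!
# S4612 (PQ-A4): the value of the principal block part of a permutation character at a `p`-element (helper739)

`X` a finite `G`-set with permutation character `∑ i, χ i`, `u` a `p`-element, `C = C_G(u)`, `Y = X^u` as a `C`-set:
`∑_{i : χ i ∈ B0(p)} χ i (u) = ∑_{ξ ∈ B0(C)} ξ(1) [π_Y, ξ]`.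
-/

set_option autoImplicit false

open Cfsg

namespace Cfsg.Agent.H739.PQ

open scoped ComplexConjugate
open Cfsg.Agent.Blocks Cfsg.Agent.H317.PQ Cfsg.Agent.H329.PQ

universe u v

section Action

variable {G : Type u} [Group G] {X : Type v} [MulAction G X]

/-- the centralizer of `u` acts on the fixed points of `u` -/
instance fixAct (u : G) : MulAction ↥(Subgroup.centralizer ({u} : Set G)) ↥(MulAction.fixedBy X u) where
  smul c x := ⟨(c : G) • (x : X), by
    have h1 : u * (c : G) = (c : G) * u := (Subgroup.mem_centralizer_singleton_iff.1 c.2).symm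
    have h2 : u • (x : X) = x := x.2
    show u • ((c : G) • (x : X)) = (c : G) • (x : X)
    rw [smul_smul, h1, ← smul_smul, h2]⟩
  one_smul x := Subtype.ext (one_smul G (x : X))
  mul_smul c d x := Subtype.ext (mul_smul (c : G) (d : G) (x : X))

theorem coe_fixAct {u : G} (c : ↥(Subgroup.centralizer ({u} : Set G))) (x : ↥(MulAction.fixedBy X u)) :
    ((c • x : ↥(MulAction.fixedBy X u)) : X) = (c : G) • (x : X) := rfl

/-- for commuting `u`, `y` of coprime orders the fixed points of `u * y` are the common fixed points -/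
theorem card_fixedBy_mul {p : ℕ} (hp : p.Prime) {u : G} (hu : ∃ k : ℕ, orderOf u = p ^ k)
    (y : ↥(Subgroup.centralizer ({u} : Set G))) (hy : ¬ p ∣ orderOf y) :
    Nat.card (MulAction.fixedBy X (u * (y : G))) =
      Nat.card (MulAction.fixedBy ↥(MulAction.fixedBy X u) y) := by
  have hc : Commute u (y : G) := (Subgroup.mem_centralizer_singleton_iff.1 y.2).symm
  have hcop : (orderOf (y : G)).Coprime (orderOf u) := by
    obtain ⟨k, hk⟩ := hu
    rw [hk, Subgroup.orderOf_coe]
    exact (Nat.Coprime.pow_right k ((Nat.Prime.coprime_iff_not_dvd hp).2 hy).symm)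
  obtain ⟨m, hm⟩ := exists_pow_eq_self_of_coprime hcop
  have key : ∀ x : X, (u * (y : G)) • x = x → u • x = x := by
    intro x hx
    have h1 : ∀ n : ℕ, (u * (y : G)) ^ n • x = x := by
      intro n
      induction n with
      | zero => rw [pow_zero, one_smul]
      | succ n ih => rw [pow_succ, mul_smul, hx, ih]
    have h2 : (u * (y : G)) ^ (orderOf (y : G) * m) = u := by
      rw [pow_mul, hc.mul_pow, pow_orderOf_eq_one, mul_one, hm]
    have h3 := h1 (orderOf (y : G) * m)
    rwa [h2] at h3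
  refine Nat.card_congr
    { toFun := fun x => ⟨⟨x.1, key _ x.2⟩, ?_⟩
      invFun := fun x => ⟨x.1.1, ?_⟩
      left_inv := fun x => rfl
      right_inv := fun x => rfl }
  · apply Subtype.ext
    show (y : G) • x.1 = x.1
    obtain ⟨z, hz⟩ := x
    have h1 : (u * (y : G)) • z = z := hz
    have h2 : u • z = z := key z hz
    rw [hc.eq, mul_smul, h2] at h1
    exact h1
  · show (u * (y : G)) • x.1.1 = x.1.1
    have h1 : y • x.1 = x.1 := x.2
    have h2 : (y : G) • x.1.1 = x.1.1 := congrArg Subtype.val h1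
    have h3 : u • x.1.1 = x.1.1 := x.1.2
    rw [mul_smul, h2, h3]

end Action

section Main

variable {G : Type u} [Group G] {p : ℕ}

theorem irr_conj (χ : IrrCharacter G) (g h : G) : (χ : G → ℂ) (h * g * h⁻¹) = (χ : G → ℂ) g := by
  obtain ⟨n, ρ, hρ, he⟩ := χ.2
  rw [← he]
  exact Representation.char_conj ρ g h

/-- **The value at a `p`-element.** -/
theorem value_eq [Finite G] [Fact p.Prime] {M : Ideal AlgInt} (hM : IsPModular p M) {X : Type v} [MulAction G X]
    [Finite X] {r : ℕ} {χ : Fin r → IrrCharacter G}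
    (hsum : ∀ g : G, (Nat.card (MulAction.fixedBy X g) : ℂ) = ∑ i, (χ i : G → ℂ) g) (S : Finset (Fin r))
    (hS : ∀ i, i ∈ S ↔ χ i ∈ principalBlock M G) {u : G} (hu : ∃ k : ℕ, orderOf u = p ^ k)
    [Fintype ↥(Subgroup.centralizer ({u} : Set G))] :
    ∑ i ∈ S, (χ i : G → ℂ) u =
      ∑ᶠ ξ ∈ principalBlock M ↥(Subgroup.centralizer ({u} : Set G)),
        (ξ : ↥(Subgroup.centralizer ({u} : Set G)) → ℂ) 1 *
        classInner (fun y : ↥(Subgroup.centralizer ({u} : Set G)) =>
          (Nat.card (MulAction.fixedBy ↥(MulAction.fixedBy X u) y) : ℂ)) (ξ : _ → ℂ) := by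
  classical
  have hp : p.Prime := Fact.out
  have := Fintype.ofFinite G
  set B := principalBlock M G with hB
  set b := principalBlock M ↥(Subgroup.centralizer ({u} : Set G)) with hb
  set A : G → ℂ := fun z => ∑ᶠ φ ∈ B, (φ : G → ℂ) u * conj ((φ : G → ℂ) z) with hA
  set E : ↥(Subgroup.centralizer ({u} : Set G)) → ℂ := fun y => ∑ᶠ ξ ∈ b, (ξ : ↥(Subgroup.centralizer ({u} : Set G)) → ℂ) 1 * conj ((ξ : ↥(Subgroup.centralizer ({u} : Set G)) → ℂ) y) with hE
  have hBR : ∀ g, MemLocalRing M (blockCoeff B g) := Osima.memLocalRing_blockCoeff hM PrincipalSection.isPBlock_principalBlock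
  have hbR : ∀ g, MemLocalRing M (blockCoeff b g) := Osima.memLocalRing_blockCoeff hM PrincipalSection.isPBlock_principalBlock
  have hG0 : (Nat.card G : ℂ) ≠ 0 := by exact_mod_cast Nat.card_pos.ne'
  have hC0 : (Nat.card ↥(Subgroup.centralizer ({u} : Set G)) : ℂ) ≠ 0 := by exact_mod_cast Nat.card_pos.ne'
  -- the sum over the group
  have h1 : ∑ z, A z * (Nat.card (MulAction.fixedBy X z) : ℂ) = (Nat.card G : ℂ) * ∑ i ∈ S, (χ i : G → ℂ) u := by
    have h2 : ∀ z, A z * (Nat.card (MulAction.fixedBy X z) : ℂ) = ∑ i, A z * (χ i : G → ℂ) z := fun z => by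
      rw [hsum, Finset.mul_sum]
    rw [Finset.sum_congr rfl fun z _ => h2 z, Finset.sum_comm,
      Finset.sum_congr rfl fun i _ => Orthogonality.sum_kernel_mul B (χ i) u, Finset.mul_sum,
      ← Finset.sum_filter]
    refine Finset.sum_congr ?_ fun _ _ => rfl
    ext i
    simp [hS]
  -- the section of `u`
  have h3 := sum_section_class hu (fun z => A z * (Nat.card (MulAction.fixedBy X z) : ℂ))
    (by
      intro g h
      simp only [hsum, irr_conj, hA])
    (by
      intro g x hgx hux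
      have h4 : A g = 0 := Orthogonality.block_orthogonality hM B hBR
        (x := u) (y := x) ⟨1, mul_one u, Commute.one_right u, hu, by rw [orderOf_one]; exact hp.one_lt.not_ge ∘ Nat.le_of_dvd one_pos⟩
        hgx hux
      simp only [h4, zero_mul])
  rw [h1] at h3
  -- the values on the section
  have h4 : ∀ y : ↥(Subgroup.centralizer ({u} : Set G)), ¬ p ∣ orderOf y → A (u * (y : G)) * (Nat.card (MulAction.fixedBy X (u * (y : G))) : ℂ) =
      E y * (Nat.card (MulAction.fixedBy ↥(MulAction.fixedBy X u) y) : ℂ) := by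
    intro y hy
    have h5 := PrincipalSection.sum_principalBlock_section hM u hu rfl (1 : ↥(Subgroup.centralizer ({u} : Set G))) y
      (by rw [orderOf_one]; exact hp.one_lt.not_ge ∘ Nat.le_of_dvd one_pos) hy
    rw [Subgroup.coe_one, mul_one] at h5
    have h6 : A (u * (y : G)) = E y := h5
    rw [h6, card_fixedBy_mul hp hu y hy]
  have h5 : ∑ y : ↥(Subgroup.centralizer ({u} : Set G)) with ¬ p ∣ orderOf y,
      A (u * (y : G)) * (Nat.card (MulAction.fixedBy X (u * (y : G))) : ℂ) =
      ∑ y : ↥(Subgroup.centralizer ({u} : Set G)), E y * (Nat.card (MulAction.fixedBy ↥(MulAction.fixedBy X u) y) : ℂ) := by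
    rw [Finset.sum_congr rfl fun y hy => h4 y (Finset.mem_filter.1 hy).2]
    apply Finset.sum_filter_of_ne
    intro y _ hne hdvd
    apply hne
    have h6 : E y = 0 := Orthogonality.weak_block_orthogonality hM b hbR
      (by rw [orderOf_one]; exact hp.one_lt.not_ge ∘ Nat.le_of_dvd one_pos) hdvd
    rw [h6, zero_mul]
  have h6 : ∑ y : ↥(Subgroup.centralizer ({u} : Set G)), E y * (Nat.card (MulAction.fixedBy ↥(MulAction.fixedBy X u) y) : ℂ) =
      (Nat.card ↥(Subgroup.centralizer ({u} : Set G)) : ℂ) * ∑ᶠ ξ ∈ b, (ξ : ↥(Subgroup.centralizer ({u} : Set G)) → ℂ) 1 *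
        classInner (fun y : ↥(Subgroup.centralizer ({u} : Set G)) => (Nat.card (MulAction.fixedBy ↥(MulAction.fixedBy X u) y) : ℂ)) (ξ : ↥(Subgroup.centralizer ({u} : Set G)) → ℂ) := by
    have : Finite (IrrCharacter ↥(Subgroup.centralizer ({u} : Set G))) := S0909.finite_irr
    have := Fintype.ofFinite (IrrCharacter ↥(Subgroup.centralizer ({u} : Set G)))
    simp only [hE, Orthogonality.finsum_mem_eq_sum_filter, Finset.sum_mul]
    rw [Finset.sum_comm, Finset.mul_sum]
    refine Finset.sum_congr rfl fun ξ _ => ?_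
    rw [classInner]
    have h7 : (Nat.card ↥(Subgroup.centralizer ({u} : Set G)) : ℂ) * ((ξ : ↥(Subgroup.centralizer ({u} : Set G)) → ℂ) 1 * ((Nat.card ↥(Subgroup.centralizer ({u} : Set G)) : ℂ)⁻¹ *
        ∑ g : ↥(Subgroup.centralizer ({u} : Set G)), (Nat.card (MulAction.fixedBy ↥(MulAction.fixedBy X u) g) : ℂ) * conj ((ξ : ↥(Subgroup.centralizer ({u} : Set G)) → ℂ) g))) =
        (ξ : ↥(Subgroup.centralizer ({u} : Set G)) → ℂ) 1 *
        ∑ g : ↥(Subgroup.centralizer ({u} : Set G)), (Nat.card (MulAction.fixedBy ↥(MulAction.fixedBy X u) g) : ℂ) * conj ((ξ : ↥(Subgroup.centralizer ({u} : Set G)) → ℂ) g) := by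
      field_simp
    rw [h7, Finset.mul_sum]
    refine Finset.sum_congr rfl fun y _ => ?_
    ring
  have h8 : (Nat.card G : ℂ) = ((Subgroup.centralizer ({u} : Set G)).index : ℂ) * (Nat.card ↥(Subgroup.centralizer ({u} : Set G)) : ℂ) := by
    rw [← Nat.cast_mul, Subgroup.index_mul_card]
  have h9 : ((Subgroup.centralizer ({u} : Set G)).index : ℂ) ≠ 0 := by
    intro h0
    rw [h0, zero_mul] at h8
    exact hG0 h8
  rw [h5, h6, h8, mul_assoc] at h3
  exact mul_left_cancel₀ hC0 (mul_left_cancel₀ h9 h3)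

/-- **fix_zero** -/
theorem fix_zero [Finite G] (hp : p.Prime) {X : Type v} [MulAction G X] [Finite X]
    {r : ℕ} {χ : Fin r → IrrCharacter G} (hX : MF G X χ) (S : Finset (Fin r)) (hS : ∀ i, i ∈ S ↔ χ i ∈ B0 p G)
    {u : G} (hu : ∃ k : ℕ, orderOf u = p ^ k) (h0 : Nat.card (MulAction.fixedBy X u) = 0) :
    ∑ i ∈ S, (χ i : G → ℂ) u = 0 := by
  have : Fact p.Prime := ⟨hp⟩
  obtain ⟨M, hM⟩ := ExistsModular.exists_isPModular hp
  have := Fintype.ofFinite ↥(Subgroup.centralizer ({u} : Set G))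
  rw [value_eq hM hX.sum S (fun i => by rw [hS, B0_eq hp hM]) hu]
  have h1 : ∀ y : ↥(Subgroup.centralizer ({u} : Set G)),
      Nat.card (MulAction.fixedBy ↥(MulAction.fixedBy X u) y) = 0 := by
    intro y
    have h2 : IsEmpty ↥(MulAction.fixedBy X u) := (Finite.card_eq_zero_iff).1 h0
    exact Nat.card_eq_zero.2 (Or.inl ⟨fun z => h2.elim z.1⟩)
  simp [classInner, h1]

/-- the number of orbits is at least the number of inequivalent points -/
theorem le_card_orbits {H : Type*} [Group H] {Y : Type*} [MulAction H Y] [Finite Y] {n : ℕ} (x : Fin n → Y)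
    (hd : ∀ i j, i ≠ j → ∀ c : H, c • x i ≠ x j) : n ≤ Nat.card (Quotient (MulAction.orbitRel H Y)) := by
  have h1 : Function.Injective (fun i => (Quotient.mk (MulAction.orbitRel H Y) (x i))) := by
    intro i j hij
    by_contra hne
    obtain ⟨c, hc⟩ := Quotient.exact hij
    exact hd j i (Ne.symm hne) c hc
  have h2 := Nat.card_le_card_of_injective _ h1
  rwa [Nat.card_fin] at h2

/-- **fix_ge** -/
theorem fix_ge [Finite G] (hp : p.Prime) {X : Type v} [MulAction G X] [Finite X]
    {r : ℕ} {χ : Fin r → IrrCharacter G} (hX : MF G X χ) (S : Finset (Fin r)) (hS : ∀ i, i ∈ S ↔ χ i ∈ B0 p G)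
    {u : G} (hu : ∃ k : ℕ, orderOf u = p ^ k) {n : ℕ} (x : Fin n → X) (hx : ∀ i, u • x i = x i)
    (hd : ∀ i j, i ≠ j → ∀ c ∈ Subgroup.centralizer ({u} : Set G), c • x i ≠ x j) :
    ∃ m : ℕ, ∑ i ∈ S, (χ i : G → ℂ) u = m ∧ n ≤ m := by
  classical
  have : Fact p.Prime := ⟨hp⟩
  obtain ⟨M, hM⟩ := ExistsModular.exists_isPModular hp
  have hMp := Local.isPrime_of_isPModular hM
  set C := Subgroup.centralizer ({u} : Set G) with hC
  have := Fintype.ofFinite ↥C
  rw [value_eq hM hX.sum S (fun i => by rw [hS, B0_eq hp hM]) hu]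
  have : Finite (IrrCharacter ↥C) := S0909.finite_irr
  have := Fintype.ofFinite (IrrCharacter ↥C)
  rw [Orthogonality.finsum_mem_eq_sum_filter]
  set π : ↥C → ℂ := fun y => (Nat.card (MulAction.fixedBy ↥(MulAction.fixedBy X u) y) : ℂ) with hπ
  have hπc : IsCharacter ↥C π := S0157.isCharacter_fixedBy ↥(MulAction.fixedBy X u)
  choose a ha using fun ξ : IrrCharacter ↥C =>
    Characters.Core.classInner_isNat hπc (Characters.Core.isIrr_isCharacter ξ.2)
  choose d hd0 hd1 using fun ξ : IrrCharacter ↥C => Basic.irr_one_eq_natCast ξ.2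
  refine ⟨∑ ξ : IrrCharacter ↥C with ξ ∈ principalBlock M ↥C, d ξ * a ξ, ?_, ?_⟩
  · push_cast
    refine Finset.sum_congr rfl fun ξ _ => ?_
    rw [ha, hd1]
  · let one : IrrCharacter ↥C := ⟨fun _ => 1, Basic.isIrrCharacter_one⟩
    have h1 : one ∈ Finset.univ.filter (fun ξ : IrrCharacter ↥C => ξ ∈ principalBlock M ↥C) := by
      rw [Finset.mem_filter]
      exact ⟨Finset.mem_univ _, PrincipalSection.one_mem_principalBlock⟩
    refine le_trans ?_ (Finset.single_le_sum (f := fun ξ => d ξ * a ξ) (fun _ _ => Nat.zero_le _) h1)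
    have h2 : (a one : ℂ) = (Nat.card (Quotient (MulAction.orbitRel ↥C ↥(MulAction.fixedBy X u))) : ℂ) := by
      rw [← S0157.avg_fixedBy (G := ↥C) ↥(MulAction.fixedBy X u), ← ha one, classInner]
      congr 1
      refine Finset.sum_congr rfl fun y _ => ?_
      show π y * conj (1 : ℂ) = _
      rw [map_one, mul_one]
    have h3 : a one = Nat.card (Quotient (MulAction.orbitRel ↥C ↥(MulAction.fixedBy X u))) := by exact_mod_cast h2
    have h4 : d one = 1 := by
      have := hd1 one
      have h5 : (1 : ℂ) = d one := this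
      exact_mod_cast h5.symm
    show n ≤ d one * a one
    rw [h4, one_mul, h3]
    refine le_card_orbits (fun i => (⟨x i, hx i⟩ : ↥(MulAction.fixedBy X u))) fun i j hij c h => ?_
    exact hd i j hij c c.2 (congrArg Subtype.val h)

end Main

end Cfsg.Agent.H739.PQ
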