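import Cfsg.Agent.Blocks.SectionSum
import Cfsg.Agent.Blocks.Basic

/-!
# The sum of a class function supported on a `p`-section (helper739)
-/

set_option autoImplicit false

open Cfsg

namespace Cfsg.Agent.H739.PQ

open scoped ComplexConjugate
open Cfsg.Agent.Blocks

universe u

variable {G : Type u} [Group G]

theorem card_isConj (g : G) [Finite G] :
    Nat.card {x : G // IsConj g x} = (Subgroup.centralizer ({g} : Set G)).index := by
  rw [Basic.index_centralizer_eq_ncard]
  rfl

/-- The sum of a class function vanishing outside of the `p`-section of `u`. -/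
theorem sum_section_class [Fintype G] {p : ℕ} [Fact p.Prime] {u : G} (hu : ∃ k : ℕ, orderOf u = p ^ k)
    (f : G → ℂ) (hcl : ∀ g h : G, f (h * g * h⁻¹) = f g)
    (h0 : ∀ g x : G, IsPPart p g x → ¬ IsConj u x → f g = 0)
    [Fintype ↥(Subgroup.centralizer ({u} : Set G))] [DecidablePred fun n : ℕ => p ∣ n] :
    ∑ g : G, f g = ((Subgroup.centralizer ({u} : Set G)).index : ℂ) *
      ∑ y : ↥(Subgroup.centralizer ({u} : Set G)) with ¬ p ∣ orderOf y, f (u * y) := by
  classical
  rw [SectionSum.sum_eq_sum_sections p f]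
  set T : G → ℂ := fun x => ∑ y ∈ Finset.univ.filter (fun y : G => Commute x y ∧ ¬ p ∣ orderOf y), f (x * y)
    with hT
  have hconj : ∀ a : G, T (a * u * a⁻¹) = T u := by
    intro a
    symm
    apply Finset.sum_equiv (MulAut.conj a).toEquiv
    · intro y
      simp only [Finset.mem_filter, Finset.mem_univ, true_and]
      have h1 : (MulAut.conj a).toEquiv y = a * y * a⁻¹ := rfl
      have h2 : orderOf (a * y * a⁻¹) = orderOf y := orderOf_injective (MulAut.conj a).toMonoidHom
        (MulAut.conj a).injective y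
      rw [h1, h2]
      have h3 : Commute u y ↔ Commute (a * u * a⁻¹) (a * y * a⁻¹) := by
        constructor
        · intro h
          exact h.map (MulAut.conj a).toMonoidHom
        · intro h
          have := h.map (MulAut.conj a⁻¹).toMonoidHom
          simpa [mul_assoc] using this
      rw [h3]
    · intro y _
      have h1 : (MulAut.conj a).toEquiv y = a * y * a⁻¹ := rfl
      rw [h1, ← hcl (u * y) a]
      congr 1
      group
  have hzero : ∀ x : G, (∃ k : ℕ, orderOf x = p ^ k) → ¬ IsConj u x → T x = 0 := by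
    intro x hx hnc
    apply Finset.sum_eq_zero
    intro y hy
    obtain ⟨h1, h2⟩ := (Finset.mem_filter.1 hy).2
    exact h0 _ x ⟨y, rfl, h1, hx, h2⟩ hnc
  have h1 : ∑ x ∈ Finset.univ.filter (fun x : G => ∃ k : ℕ, orderOf x = p ^ k), T x =
      ∑ x ∈ Finset.univ.filter (fun x : G => IsConj u x), T u := by
    rw [← Finset.sum_subset (s₁ := Finset.univ.filter (fun x : G => IsConj u x))
      (s₂ := Finset.univ.filter (fun x : G => ∃ k : ℕ, orderOf x = p ^ k))]
    · apply Finset.sum_congr rfl
      intro x hx
      obtain ⟨c, rfl⟩ := isConj_iff.1 (Finset.mem_filter.1 hx).2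
      exact hconj c
    · intro x hx
      rw [Finset.mem_filter] at hx ⊢
      obtain ⟨c, rfl⟩ := isConj_iff.1 hx.2
      refine ⟨Finset.mem_univ _, ?_⟩
      obtain ⟨k, hk⟩ := hu
      exact ⟨k, by rw [← hk]; exact orderOf_injective (MulAut.conj c).toMonoidHom (MulAut.conj c).injective u⟩
    · intro x hx hx'
      rw [Finset.mem_filter] at hx hx'
      exact hzero x hx.2 fun h => hx' ⟨Finset.mem_univ _, h⟩
  refine (Eq.trans ?_ h1).trans ?_
  · refine Finset.sum_congr (by ext; simp) fun x _ => ?_
    exact Finset.sum_congr (by ext; simp) fun _ _ => rfl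
  rw [Finset.sum_const, ← card_isConj, nsmul_eq_mul]
  congr 1
  · rw [Nat.card_eq_fintype_card, Fintype.card_subtype]
  · rw [hT]
    symm
    apply Finset.sum_bij (fun (y : ↥(Subgroup.centralizer ({u} : Set G))) _ => (y : G))
    · intro y hy
      rw [Finset.mem_filter] at hy ⊢
      refine ⟨Finset.mem_univ _, (Subgroup.mem_centralizer_singleton_iff.1 y.2).symm, ?_⟩
      rw [Subgroup.orderOf_coe]
      exact hy.2
    · intro a _ b _ hab
      exact Subtype.ext hab
    · intro y hy
      obtain ⟨h2, h3⟩ := (Finset.mem_filter.1 hy).2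
      refine ⟨⟨y, Subgroup.mem_centralizer_singleton_iff.2 h2.symm⟩, ?_, rfl⟩
      rw [Finset.mem_filter, ← Subgroup.orderOf_coe]
      exact ⟨Finset.mem_univ _, h3⟩
    · intro y _
      rfl

end Cfsg.Agent.H739.PQ
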